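import Groth.Agent.NodeLib.Crit

/-! seminormality of an ordinary double point with respect to the Frobenius -/

universe u

open IsLocalRing

namespace Groth.Agent.NodeFrob

set_option autoImplicit false

variable {A : Type u} [CommRing A] [IsLocalRing A] {x y : A}

theorem mem_sq_of_mul (h : NodeLib.IsNodePair x y) {n : ℕ} (hn : 1 ≤ n) :
    x * y ^ n ∈ maximalIdeal A ^ (n + 2) ∧ y * x ^ n ∈ maximalIdeal A ^ (n + 2) := by
  obtain ⟨m, rfl⟩ : ∃ m, n = m + 1 := ⟨n - 1, by omega⟩
  constructor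
  · rw [pow_succ' y, ← mul_assoc, show m + 1 + 2 = 3 + m by omega, pow_add]
    exact Ideal.mul_mem_mul h.2.1 (Ideal.pow_mem_pow h.right_mem m)
  · rw [pow_succ' x, ← mul_assoc, mul_comm y x, show m + 1 + 2 = 3 + m by omega, pow_add]
    exact Ideal.mul_mem_mul h.2.1 (Ideal.pow_mem_pow h.left_mem m)

theorem exists_decomp (h : NodeLib.IsNodePair x y) : ∀ {n : ℕ}, 1 ≤ n → ∀ w ∈ maximalIdeal A ^ n,
    ∃ a b : A, w - (a * x ^ n + b * y ^ n) ∈ maximalIdeal A ^ (n + 1) := by
  intro n hn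
  induction n, hn using Nat.le_induction with
  | base =>
    intro w hw
    rw [pow_one, h.1, Ideal.mem_span_pair] at hw
    obtain ⟨a, b, rfl⟩ := hw
    exact ⟨a, b, by simp⟩
  | succ n hn ih =>
    intro w hw
    rw [pow_succ] at hw
    refine Submodule.mul_induction_on hw (fun v hv t ht => ?_) (fun v v' hv hv' => ?_)
    · obtain ⟨a, b, hab⟩ := ih v hv
      rw [h.1, Ideal.mem_span_pair] at ht
      obtain ⟨c, d, rfl⟩ := ht
      obtain ⟨h1, h2⟩ := mem_sq_of_mul h hn
      refine ⟨a * c, b * d, ?_⟩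
      have ht' : c * x + d * y ∈ maximalIdeal A :=
        add_mem (Ideal.mul_mem_left _ _ h.left_mem) (Ideal.mul_mem_left _ _ h.right_mem)
      have h3 := Ideal.mul_mem_mul hab ht'
      rw [← pow_succ] at h3
      have h4 : v * (c * x + d * y) - (a * c * x ^ (n + 1) + b * d * y ^ (n + 1)) =
          (v - (a * x ^ n + b * y ^ n)) * (c * x + d * y) + (a * d * (y * x ^ n) + b * c * (x * y ^ n)) := by ring
      rw [h4]
      exact add_mem h3 (add_mem (Ideal.mul_mem_left _ _ h2) (Ideal.mul_mem_left _ _ h1))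
    · obtain ⟨a, b, hab⟩ := hv
      obtain ⟨a', b', hab'⟩ := hv'
      refine ⟨a + a', b + b', ?_⟩
      have := add_mem hab hab'
      convert this using 1
      ring

variable {B : Type u} [CommRing B] (f : A →+* B)

/-- the multiplier at the first order is diagonal and constant -/
theorem first_step (h : NodeLib.IsNodePair x y) (hf : Function.Injective f) {p : ℕ} [Fact p.Prime]
    (hp : (p : A) ∈ maximalIdeal A) {z : B} {X Y c : A} (hX : f X = z * f x) (hY : f Y = z * f y)
    (hXm : X ∈ maximalIdeal A) (hYm : Y ∈ maximalIdeal A) (hc : z ^ p = f c) :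
    ∃ a : A, X - a * x ∈ maximalIdeal A ^ 2 ∧ Y - a * y ∈ maximalIdeal A ^ 2 := by
  rw [h.1, Ideal.mem_span_pair] at hXm hYm
  obtain ⟨a, b, rfl⟩ := hXm
  obtain ⟨c', d, rfl⟩ := hYm
  have hcross : y * (a * x + b * y) = x * (c' * x + d * y) :=
    hf (by rw [map_mul, map_mul, hX, hY]; ring)
  have hxy2 : x * y ∈ maximalIdeal A ^ 3 := h.2.1
  have hbc : b ∈ maximalIdeal A ∧ -c' ∈ maximalIdeal A := by
    have h2 := h.2.2 2 one_le_two (-c') b (by
      have : -c' * x ^ 2 + b * y ^ 2 = (d - a) * (x * y) + (y * (a * x + b * y) - x * (c' * x + d * y)) := by ring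
      rw [this, hcross, sub_self, add_zero]
      exact Ideal.mul_mem_left _ _ hxy2)
    exact ⟨h2.2, h2.1⟩
  have hX2 : a * x + b * y - a * x ∈ maximalIdeal A ^ 2 := by
    rw [add_sub_cancel_left, sq]; exact Ideal.mul_mem_mul hbc.1 h.right_mem
  have hY2 : c' * x + d * y - d * y ∈ maximalIdeal A ^ 2 := by
    rw [add_sub_cancel_right, sq]; exact Ideal.mul_mem_mul (by simpa using neg_mem hbc.2) h.left_mem
  -- iterate `p` times
  have hit : ∀ n : ℕ, ∃ P Q : A, f P = z ^ n * f x ∧ f Q = z ^ n * f y ∧ P - a ^ n * x ∈ maximalIdeal A ^ 2 ∧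
      Q - d ^ n * y ∈ maximalIdeal A ^ 2 := by
    intro n
    induction n with
    | zero => exact ⟨x, y, by simp, by simp, by simp, by simp⟩
    | succ n ih =>
      obtain ⟨P, Q, hP, hQ, hP2, hQ2⟩ := ih
      have hm : ∀ r : A, r - a ^ n * x ∈ maximalIdeal A ^ 2 ∨ r - d ^ n * y ∈ maximalIdeal A ^ 2 →
          r ∈ maximalIdeal A := by
        intro r hr
        rcases hr with hr | hr
        · exact (sub_add_cancel r (a ^ n * x)) ▸ add_mem (Ideal.pow_le_self two_ne_zero hr)
            (Ideal.mul_mem_left _ _ h.left_mem)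
        · exact (sub_add_cancel r (d ^ n * y)) ▸ add_mem (Ideal.pow_le_self two_ne_zero hr)
            (Ideal.mul_mem_left _ _ h.right_mem)
      have hPm := hm P (Or.inl hP2)
      have hQm := hm Q (Or.inr hQ2)
      rw [h.1, Ideal.mem_span_pair] at hPm hQm
      obtain ⟨r, s, rfl⟩ := hPm
      obtain ⟨r', s', rfl⟩ := hQm
      refine ⟨r * (a * x + b * y) + s * (c' * x + d * y), r' * (a * x + b * y) + s' * (c' * x + d * y), ?_, ?_, ?_, ?_⟩
      · calc f (r * (a * x + b * y) + s * (c' * x + d * y)) = f r * f (a * x + b * y) + f s * f (c' * x + d * y) := by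
              rw [map_add, map_mul, map_mul]
          _ = z * f (r * x + s * y) := by rw [hX, hY, map_add, map_mul, map_mul]; ring
          _ = z ^ (n + 1) * f x := by rw [hP]; ring
      · calc f (r' * (a * x + b * y) + s' * (c' * x + d * y)) =
              f r' * f (a * x + b * y) + f s' * f (c' * x + d * y) := by rw [map_add, map_mul, map_mul]
          _ = z * f (r' * x + s' * y) := by rw [hX, hY, map_add, map_mul, map_mul]; ring
          _ = z ^ (n + 1) * f y := by rw [hQ]; ring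
      · have hs : s ∈ maximalIdeal A :=
          (h.2.2 1 le_rfl (r - a ^ n) s (by convert hP2 using 1; ring)).2
        have hr : r - a ^ n ∈ maximalIdeal A :=
          (h.2.2 1 le_rfl (r - a ^ n) s (by convert hP2 using 1; ring)).1
        have : r * (a * x + b * y) + s * (c' * x + d * y) - a ^ (n + 1) * x =
            (r - a ^ n) * (a * x) + r * (b * y) + s * (c' * x + d * y) := by ring
        rw [this, sq]
        exact add_mem (add_mem (Ideal.mul_mem_mul hr (Ideal.mul_mem_left _ _ h.left_mem))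
          (Ideal.mul_mem_left _ _ (Ideal.mul_mem_mul hbc.1 h.right_mem)))
          (Ideal.mul_mem_mul hs (add_mem (Ideal.mul_mem_left _ _ h.left_mem) (Ideal.mul_mem_left _ _ h.right_mem)))
      · have hh := h.2.2 1 le_rfl r' (s' - d ^ n) (by convert hQ2 using 1; ring)
        have : r' * (a * x + b * y) + s' * (c' * x + d * y) - d ^ (n + 1) * y =
            r' * (a * x + b * y) + (s' - d ^ n) * (d * y) + s' * (c' * x) := by ring
        rw [this, sq]
        exact add_mem (add_mem (Ideal.mul_mem_mul hh.1 (add_mem (Ideal.mul_mem_left _ _ h.left_mem)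
          (Ideal.mul_mem_left _ _ h.right_mem))) (Ideal.mul_mem_mul hh.2 (Ideal.mul_mem_left _ _ h.right_mem)))
          (Ideal.mul_mem_left _ _ (Ideal.mul_mem_mul (by simpa using neg_mem hbc.2) h.left_mem))
  obtain ⟨P, Q, hP, hQ, hP2, hQ2⟩ := hit p
  have eP : P = c * x := hf (by rw [hP, hc, map_mul])
  have eQ : Q = c * y := hf (by rw [hQ, hc, map_mul])
  subst eP eQ
  have h1 : c - a ^ p ∈ maximalIdeal A :=
    (h.2.2 1 le_rfl (c - a ^ p) 0 (by convert hP2 using 1; ring)).1
  have h2 : c - d ^ p ∈ maximalIdeal A :=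
    (h.2.2 1 le_rfl 0 (c - d ^ p) (by convert hQ2 using 1; ring)).2
  have h3 : (a - d) ^ p ∈ maximalIdeal A := by
    obtain ⟨e, he⟩ := (Commute.all (a - d) d).exists_add_pow_prime_eq (Fact.out : p.Prime)
    rw [sub_add_cancel] at he
    have : (a - d) ^ p = (c - d ^ p) - (c - a ^ p) - (p : A) * (a - d) * d * e := by rw [he]; ring
    rw [this]
    exact sub_mem (sub_mem h2 h1) (Ideal.mul_mem_right _ _ (Ideal.mul_mem_right _ _ (Ideal.mul_mem_right _ _ hp)))
  have hda : d - a ∈ maximalIdeal A := by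
    simpa using neg_mem ((maximalIdeal.isMaximal A).isPrime.mem_of_pow_mem p h3)
  refine ⟨a, hX2, ?_⟩
  have : c' * x + d * y - a * y = (c' * x + d * y - d * y) + (d - a) * y := by ring
  rw [this]
  exact add_mem hY2 (by rw [sq]; exact Ideal.mul_mem_mul hda h.right_mem)

/-- improving the approximation -/
theorem next_step (h : NodeLib.IsNodePair x y) (hf : Function.Injective f) {z : B} {X Y : A}
    (hX : f X = z * f x) (hY : f Y = z * f y) {n : ℕ} (hn : 2 ≤ n)
    (hu : ∃ u : A, X - u * x ∈ maximalIdeal A ^ n ∧ Y - u * y ∈ maximalIdeal A ^ n) :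
    ∃ u : A, X - u * x ∈ maximalIdeal A ^ (n + 1) ∧ Y - u * y ∈ maximalIdeal A ^ (n + 1) := by
  obtain ⟨u, hu1, hu2⟩ := hu
  obtain ⟨α, β, h1⟩ := exists_decomp h (show 1 ≤ n by omega) _ hu1
  obtain ⟨γ, δ, h2⟩ := exists_decomp h (show 1 ≤ n by omega) _ hu2
  obtain ⟨m, rfl⟩ : ∃ m, n = m + 1 := ⟨n - 1, by omega⟩
  obtain ⟨e1, e2⟩ := mem_sq_of_mul h (show 1 ≤ m by omega)
  obtain ⟨e3, e4⟩ := mem_sq_of_mul h (show 1 ≤ m + 1 by omega)
  have hcross : y * (X - u * x) = x * (Y - u * y) :=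
    hf (by rw [map_mul, map_mul, map_sub, map_sub, map_mul, map_mul, hX, hY]; ring)
  have hk : (-γ) * x ^ (m + 1 + 1) + β * y ^ (m + 1 + 1) ∈ maximalIdeal A ^ (m + 1 + 1 + 1) := by
    have h5 := Ideal.mul_mem_mul h1 h.right_mem
    have h6 := Ideal.mul_mem_mul h2 h.left_mem
    rw [← pow_succ] at h5 h6
    have : (-γ) * x ^ (m + 1 + 1) + β * y ^ (m + 1 + 1) =
        (Y - u * y - (γ * x ^ (m + 1) + δ * y ^ (m + 1))) * x -
          (X - u * x - (α * x ^ (m + 1) + β * y ^ (m + 1))) * y +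
          (δ * (x * y ^ (m + 1)) - α * (y * x ^ (m + 1))) + (y * (X - u * x) - x * (Y - u * y)) := by ring
    rw [this, hcross, sub_self, add_zero]
    exact add_mem (sub_mem h6 h5) (sub_mem (Ideal.mul_mem_left _ _ e3) (Ideal.mul_mem_left _ _ e4))
  obtain ⟨hγ, hβ⟩ := h.2.2 _ (by omega) _ _ hk
  have hγ' : γ ∈ maximalIdeal A := by simpa using neg_mem hγ
  have key : ∀ (c w : A), c ∈ maximalIdeal A → w ∈ maximalIdeal A → c * w ^ (m + 1) ∈ maximalIdeal A ^ (m + 1 + 1) :=
    fun c w hc hw => by rw [pow_succ' (maximalIdeal A)]; exact Ideal.mul_mem_mul hc (Ideal.pow_mem_pow hw _)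
  refine ⟨u + α * x ^ m + δ * y ^ m, ?_, ?_⟩
  · have : X - (u + α * x ^ m + δ * y ^ m) * x = (X - u * x - (α * x ^ (m + 1) + β * y ^ (m + 1))) +
        β * y ^ (m + 1) - δ * (x * y ^ m) := by ring
    rw [this]
    exact sub_mem (add_mem h1 (key _ _ hβ h.right_mem)) (Ideal.mul_mem_left _ _ e1)
  · have : Y - (u + α * x ^ m + δ * y ^ m) * y = (Y - u * y - (γ * x ^ (m + 1) + δ * y ^ (m + 1))) +
        γ * x ^ (m + 1) - α * (y * x ^ m) := by ring
    rw [this]
    exact sub_mem (add_mem h2 (key _ _ hγ' h.left_mem)) (Ideal.mul_mem_left _ _ e2)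

/-- an ordinary double point is seminormal for the Frobenius -/
theorem mem_range_of_pow_mem [IsNoetherianRing A] (h : NodeLib.HasNodePair A) (hf : Function.Injective f)
    {p : ℕ} [Fact p.Prime] (hp : (p : A) ∈ maximalIdeal A) {s : A} (hs : s ∈ maximalIdeal A)
    (hsB : ∀ b : B, f s * b = 0 → b = 0) {z : B} (hz : ∀ w ∈ maximalIdeal A, ∃ v, f v = z * f w)
    (hzp : z ^ p ∈ f.range) : z ∈ f.range := by
  obtain ⟨x, y, h⟩ := h
  obtain ⟨c, hc⟩ := hzp
  have hmem : ∀ w v : A, w ∈ maximalIdeal A → f v = z * f w → v ∈ maximalIdeal A := by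
    intro w v hw hv
    refine (maximalIdeal.isMaximal A).isPrime.mem_of_pow_mem p ?_
    rw [show v ^ p = c * w ^ p from hf (by rw [map_pow, hv, mul_pow, map_mul, map_pow, hc])]
    exact Ideal.mul_mem_left _ _ (Ideal.pow_mem_of_mem _ hw p (Fact.out : p.Prime).pos)
  obtain ⟨X, hX⟩ := hz x h.left_mem
  obtain ⟨Y, hY⟩ := hz y h.right_mem
  have hall : ∀ n, ∃ u : A, X - u * x ∈ maximalIdeal A ^ (n + 2) ∧ Y - u * y ∈ maximalIdeal A ^ (n + 2) := by
    intro n
    induction n with
    | zero => exact first_step f h hf hp hX hY (hmem x X h.left_mem hX) (hmem y Y h.right_mem hY) hc.symm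
    | succ n ih => exact next_step f h hf hX hY (by omega) ih
  obtain ⟨S, hS⟩ := hz s hs
  have hs' := hs
  rw [h.1, Ideal.mem_span_pair] at hs'
  obtain ⟨a, b, hab⟩ := hs'
  have eS : S = a * X + b * Y := hf (by rw [hS, ← hab, map_add, map_add, map_mul, map_mul, map_mul, map_mul, hX, hY]; ring)
  have hSs : S ∈ Ideal.span {s} := by
    haveI : Nontrivial (A ⧸ Ideal.span {s}) := Ideal.Quotient.nontrivial_iff.2 fun h1 =>
      (maximalIdeal.isMaximal A).ne_top (top_le_iff.1 (h1 ▸ (Ideal.span_singleton_le_iff_mem _).2 hs))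
    haveI : IsLocalRing (A ⧸ Ideal.span {s}) := IsLocalRing.of_surjective' (Ideal.Quotient.mk _) Ideal.Quotient.mk_surjective
    rw [← Ideal.Quotient.eq_zero_iff_mem, ← Ideal.mem_bot,
      ← Ideal.iInf_pow_eq_bot_of_isLocalRing ((maximalIdeal A).map (Ideal.Quotient.mk (Ideal.span {s}))) ?_]
    · refine Submodule.mem_iInf _ |>.2 fun n => ?_
      obtain ⟨u, h1, h2⟩ := hall n
      rw [← Ideal.map_pow]
      have : Ideal.Quotient.mk (Ideal.span {s}) S = Ideal.Quotient.mk _ (a * (X - u * x) + b * (Y - u * y)) := by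
        refine Ideal.Quotient.eq.2 (Ideal.mem_span_singleton.2 ⟨u, ?_⟩)
        rw [eS, ← hab]; ring
      rw [this]
      exact Ideal.mem_map_of_mem _ (Ideal.pow_le_pow_right (by omega)
        (add_mem (Ideal.mul_mem_left _ _ h1) (Ideal.mul_mem_left _ _ h2)))
    · intro htop
      have h1 := congrArg (Ideal.comap (Ideal.Quotient.mk (Ideal.span {s}))) htop
      rw [Ideal.comap_map_of_surjective _ Ideal.Quotient.mk_surjective, Ideal.comap_top, ← RingHom.ker_eq_comap_bot,
        Ideal.mk_ker, sup_eq_left.2 ((Ideal.span_singleton_le_iff_mem _).2 hs)] at h1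
      exact (maximalIdeal.isMaximal A).ne_top h1
  obtain ⟨u, hu⟩ := Ideal.mem_span_singleton.1 hSs
  refine ⟨u, (sub_eq_zero.1 (hsB (z - f u) ?_)).symm⟩
  rw [mul_sub, mul_comm, ← hS, hu, map_mul, sub_self]

end Groth.Agent.NodeFrob
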