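import Groth.Agent.NodeFrob.Local
import Groth.Agent.CharPTop.Natural
import Groth.Agent.TopDegFinite.Basic
import Groth.Agent.VanishGroth7.Noetherian
import Groth.Agent.QCoh.PushLin
import Groth.Agent.QCoh.DevissageP
import Mathlib.FieldTheory.Perfect

/-! ordinarity of a nodal curve and of its normalisation -/

universe u

open CategoryTheory CategoryTheory.Limits AlgebraicGeometry Opposite TopologicalSpace CategoryTheory.Abelian

namespace Groth.Agent.NodeFrob

set_option autoImplicit false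
set_option maxHeartbeats 1000000
set_option synthInstance.maxHeartbeats 400000
set_option backward.isDefEq.respectTransparency false
set_option backward.isDefEq.respectTransparency.types false
set_option linter.style.haveILetI false

/-- surjective semilinear endomorphisms of a finite space are bijective -/
theorem bijective_of_surjective {k V : Type*} [Field k] (p : ℕ) [Fact p.Prime] [CharP k p] [PerfectRing k p]
    [AddCommGroup V] [Module k V] [FiniteDimensional k V] (F : V →+ V)
    (hF : ∀ (c : k) (v : V), F (c • v) = c ^ p • F v) (hs : Function.Surjective F) : Function.Bijective F := by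
  refine ⟨(injective_iff_map_eq_zero F).2 fun v hv => ?_, hs⟩
  let b := Module.finBasis k V
  have hexp : ∀ w : V, F w = ∑ i, b.repr w i ^ p • F (b i) := fun w => by
    conv_lhs => rw [← b.sum_repr w, map_sum]
    exact Finset.sum_congr rfl fun i _ => hF _ _
  have hsp : (⊤ : Submodule k V) ≤ Submodule.span k (Set.range fun i => F (b i)) := fun w _ => by
    obtain ⟨w', rfl⟩ := hs w
    rw [hexp]
    exact Submodule.sum_mem _ fun i _ => Submodule.smul_mem _ _ (Submodule.subset_span ⟨i, rfl⟩)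
  have hli := linearIndependent_of_top_le_span_of_card_eq_finrank hsp (Fintype.card_fin _)
  have h0 := Fintype.linearIndependent_iff.1 hli (fun i => b.repr v i ^ p) ((hexp v).symm.trans hv)
  refine b.ext_elem fun i => ?_
  rw [map_zero]
  exact eq_zero_of_pow_eq_zero (h0 i)

section semilinear

variable {Y : Scheme.{u}} {p : ℕ} (φ : Coh.toAb (Coh.structureModule Y) ⟶ Coh.toAb (Coh.structureModule Y))
  (hφ : ∀ (V : Y.Opens) (s : Γ(Y, V)), (φ.hom.app (op V)).hom s = s ^ p)

include hφ in
theorem smulAb_comp (r : Coh.Γtop Y) :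
    Coh.smulAb (Coh.structureModule Y) r ≫ φ = φ ≫ Coh.smulAb (Coh.structureModule Y) (r ^ p) := by
  refine Sheaf.hom_ext (NatTrans.ext (funext fun U => AddCommGrpCat.hom_ext (AddMonoidHom.ext fun m => ?_)))
  let m' : Γ(Y, U.unop) := m
  let r' : Γ(Y, U.unop) := Coh.resTop Y U r
  refine (hφ U.unop (r' * m')).trans ((mul_pow r' m' p).trans ?_)
  exact congrArg₂ (fun a b : Γ(Y, U.unop) => a * b) (map_pow (Coh.resTop Y U) r p).symm (hφ U.unop m').symm

variable {k : Type u} [Field k] (f : Y ⟶ Spec (CommRingCat.of k))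

include hφ in
theorem H_map_semilinear (n : ℕ) (c : k) :
    letI : Y.Over (Spec (CommRingCat.of k)) := ⟨f⟩
    ∀ v : Coh.HH Y (Coh.structureModule Y) n, Sheaf.H.map φ n (c • v) = c ^ p • Sheaf.H.map φ n v := by
  letI : Y.Over (Spec (CommRingCat.of k)) := ⟨f⟩
  intro v
  show Sheaf.H.map φ n (Sheaf.H.map (Coh.smulAb _ (Coh.toGlobal f c)) n v) =
    Sheaf.H.map (Coh.smulAb _ (Coh.toGlobal f (c ^ p))) n (Sheaf.H.map φ n v)
  rw [map_pow, ← Sheaf.H.map_comp_apply, ← Sheaf.H.map_comp_apply, smulAb_comp φ hφ]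

include hφ f in
theorem bijective_of_surjective_H [Fact p.Prime] [CharP k p] [PerfectRing k p] [IsSeparated f] [LocallyOfFiniteType f]
    [QuasiCompact f] {n : ℕ} (hd : topologicalKrullDim Y ≤ n) (hs : Function.Surjective (Sheaf.H.map φ n)) :
    Function.Bijective (Sheaf.H.map φ n) := by
  letI : Y.Over (Spec (CommRingCat.of k)) := ⟨f⟩
  haveI : IsSeparated (Y ↘ Spec (CommRingCat.of k)) := ‹IsSeparated f›
  haveI : LocallyOfFiniteType (Y ↘ Spec (CommRingCat.of k)) := ‹LocallyOfFiniteType f›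
  haveI : QuasiCompact (Y ↘ Spec (CommRingCat.of k)) := ‹QuasiCompact f›
  haveI : IsLocallyNoetherian Y := LocallyOfFiniteType.isLocallyNoetherian f
  haveI := TopDegFinite.main k Y _ QCoh.isCoh_structureModule' n hd
  exact bijective_of_surjective (k := k) p (Sheaf.H.map φ n) (H_map_semilinear φ hφ f n) hs

end semilinear

/-- sheaves supported on finitely many closed points have no first cohomology -/
theorem subsingleton_H_one_of_supp {X : TopCat.{u}} [NoetherianSpace X] {T : Set X} (hT : T.Finite)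
    (hcl : ∀ x ∈ T, IsClosed ({x} : Set X)) (F : CohTop.Ab X)
    (hF : ∀ x ∉ T, IsZero ((VanishGroth7.stalkF x).obj F)) : Subsingleton (CohTop.H F 1) := by
  have hTc : IsClosed T := Set.biUnion_of_singleton T ▸ hT.isClosed_biUnion hcl
  haveI : Finite T := hT.to_subtype
  haveI : T1Space T := ⟨fun t => by
    have h := (hcl t.1 t.2).preimage (continuous_subtype_val (p := fun x => x ∈ T))
    rwa [← Set.image_singleton, Subtype.val_injective.preimage_image] at h⟩
  have hd : topologicalKrullDim T < ((1 : ℕ) : WithBot ℕ∞) := by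
    haveI : DiscreteTopology T := inferInstance
    refine lt_of_le_of_lt (Order.krullDim_nonpos_iff_forall_isMin.2 fun Z W hWZ => ?_) (by norm_num)
    intro t ht
    obtain ⟨w, hw⟩ := W.isIrreducible.nonempty
    exact (Z.isIrreducible.isPreirreducible.subsingleton (hWZ hw) ht) ▸ hw
  have h := VanishGroth7.cdLE_of_support 1 X ⟨T, hTc⟩ hd F hF 0 (by omega)
  exact (SiteBase.huTerminalEquiv (J := VanishGroth7.J X) isTerminalTop F 1).symm.toEquiv.subsingleton_congr.2 h

variable {k : Type u} [Field k] [IsAlgClosed k] {p : ℕ} [Fact p.Prime] [CharP k p]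
  {C : Scheme.{u}} [C.Over (Spec (CommRingCat.of k))] [IsReduced C] [IsProper (C ↘ Spec (CommRingCat.of k))]
  (hdim : ∀ Z ∈ irreducibleComponents (C : Type u), topologicalKrullDim Z = 1) (hnod : Curv2.AtWorstNodal k C)
  {C' : Scheme.{u}} (π : C' ⟶ C) [IsFinite π] (hC' : Pi1.IsNormalScheme C')
  {U : C.Opens} (hU : Dense (U : Set C)) (hU' : Dense ((π ⁻¹ᵁ U : C'.Opens) : Set C')) [IsIso (π ∣_ U)]

/-- residue fields at closed points are the base field -/
theorem exists_residue_eq {x : C} (hx : IsClosed ({x} : Set C)) (a : C.presheaf.stalk x) :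
    ∃ c : k, a - Curv2.stalkMap k C x c ∈ IsLocalRing.maximalIdeal (C.presheaf.stalk x) := by
  letI : Algebra k (C.residueField x) := (Curv2.resMap k C x).toAlgebra
  haveI : Module.Finite k (C.residueField x) := Kleiman.finite_resMap k hx
  obtain ⟨c, hc⟩ := (IsAlgClosed.algebraMap_bijective_of_isIntegral (k := k) (K := C.residueField x)).2 (C.residue x a)
  refine ⟨c, (IsLocalRing.residue_eq_zero_iff _).1 ?_⟩
  rw [map_sub, sub_eq_zero]
  exact hc.symm

include hdim hnod hC' hU hU' in
/-- every section of the normalisation is locally a `p`-th power plus a function -/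
theorem exists_frob (x : C) (W : C.Opens) (hx : x ∈ W) (z : Γ(C', π ⁻¹ᵁ W)) :
    ∃ (W' : C.Opens) (_ : x ∈ W') (i : W' ≤ W) (w : Γ(C', π ⁻¹ᵁ W')) (a : Γ(C, W')),
      C'.presheaf.map (homOfLE (π.preimage_mono i)).op z = w ^ p + π.app W' a ∧ (x ∈ U → w = 0) := by
  classical
  have hp : p.Prime := Fact.out
  by_cases hxU : x ∈ U
  · obtain ⟨a, ha⟩ := (NormX.bijective_app_of_isIso_restrict π U (inf_le_right : W ⊓ U ≤ U)).2
      (C'.presheaf.map (homOfLE (π.preimage_mono inf_le_left)).op z)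
    exact ⟨W ⊓ U, ⟨hx, hxU⟩, inf_le_left, 0, a, by rw [zero_pow hp.ne_zero, zero_add, ha], fun _ => rfl⟩
  haveI : IsLocallyNoetherian C := LocallyOfFiniteType.isLocallyNoetherian (C ↘ Spec (CommRingCat.of k))
  haveI : CompactSpace C := QuasiCompact.compactSpace_of_compactSpace (C ↘ Spec (CommRingCat.of k))
  haveI : IsReduced C' := by
    haveI : ∀ y : C', _root_.IsReduced (C'.presheaf.stalk y) := fun y => by
      haveI := (hC' y).1
      infer_instance
    exact isReduced_of_isReduced_stalk C'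
  haveI : LocallyOfFinitePresentation (C ↘ Spec (CommRingCat.of k)) := inferInstance
  have hd := NodeLib.dim_le_one_of_components (C ↘ Spec (CommRingCat.of k)) hdim
  have hcl : IsClosed ({x} : Set C) := by
    by_contra hx'
    exact hxU (FlatDense.mem_of_dense_of_max_scheme U hU fun y' hy' => PureLib.eq_of_specializes hdim hx' hy')
  let A := C.presheaf.stalk x
  let f := pMap π x
  -- it suffices to work with germs
  suffices h : ∃ (e : pStalk π x) (a : A), gB π x W hx z = e ^ p + f a by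
    obtain ⟨e, a, h⟩ := h
    obtain ⟨We, hxe, e₀, rfl⟩ := TopCat.Presheaf.exists_germ_eq _ e
    obtain ⟨Wa, hxa, a₀, rfl⟩ := TopCat.Presheaf.exists_germ_eq _ a
    have hW : x ∈ W ⊓ We ⊓ Wa := ⟨⟨hx, hxe⟩, hxa⟩
    change gB π x W hx z = gB π x We hxe e₀ ^ p + pMap π x _ at h
    rw [← gB_res π x (inf_le_left.trans inf_le_left : W ⊓ We ⊓ Wa ≤ W) hW z,
      ← gB_res π x (inf_le_left.trans inf_le_right : W ⊓ We ⊓ Wa ≤ We) hW e₀,
      ← C.presheaf.germ_res_apply (homOfLE (inf_le_right : W ⊓ We ⊓ Wa ≤ Wa)) x hW a₀, pMap_germ,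
      ← map_pow, ← map_add] at h
    obtain ⟨O, hxO, i₁, i₂, hO⟩ := TopCat.Presheaf.germ_eq _ x hW hW _ _ h
    refine ⟨O, hxO, i₁.le.trans (inf_le_left.trans inf_le_left),
      C'.presheaf.map (homOfLE (π.preimage_mono (i₁.le.trans (inf_le_left.trans inf_le_right)))).op e₀,
      C.presheaf.map (homOfLE (i₁.le.trans inf_le_right)).op a₀, ?_, fun hU0 => absurd hU0 hxU⟩
    change C'.presheaf.map (homOfLE (π.preimage_mono i₁.le)).op _ = C'.presheaf.map (homOfLE (π.preimage_mono i₁.le)).op (_ + _) at hO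
    rw [map_add, map_pow, ← NormEuler.app_res π i₁.le, res_res, res_res, res_res] at hO
    exact hO
  by_cases hzr : gB π x W hx z ∈ f.range
  · obtain ⟨a, ha⟩ := hzr
    exact ⟨0, a, by rw [zero_pow hp.ne_zero, zero_add, ha]⟩
  have hl := (NormEuler.length_cokernel_eq π x hx).symm.trans (NormEuler.length_cokernel π hU hU' hC' x)
  have hdel := NormEuler.deltaInv_nodal (k := k) hdim hnod hcl
  -- `x` is a node
  have hn : Curv2.IsNode k C x := by
    by_contra hn
    refine hzr (gM_mem_span π x ?_)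
    have hs := ((NodeLib.atWorstNodal_iff hd).mp hnod x).resolve_right hn
    haveI := SmoothReg.isRegularLocalRing_stalk_of_mem_smoothLocus _ hs
    haveI := RegLoc6.isIntegrallyClosed_of_isRegularLocalRing (C.presheaf.stalk x)
    rw [NormEuler.deltaInv_of_isIntegrallyClosed, Module.length_eq_zero_iff, Submodule.Quotient.subsingleton_iff] at hl
    exact (hl.ge : _ ≤ _) Submodule.mem_top
  rw [if_pos hn, ENat.toNat_eq_iff one_ne_zero] at hdel
  rw [hdel] at hl
  obtain ⟨hm, hgen⟩ := gB_of_length_one π x hx hl _ hzr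
  haveI := NodeLib.isNoetherianRing_stalk_of_lft (C ↘ Spec (CommRingCat.of k)) x
  have hnp := NodeLib.hasNodePair_of_isNode hn (IsPullback.id_horiz (C ↘ Spec (CommRingCat.of k))) x rfl
  haveI : _root_.IsReduced A := inferInstance
  obtain ⟨s, hs, hs0⟩ := exists_nonzerodivisor (maximalIdeal_notMem_minimalPrimes
    (MultiCross.ringKrullDim_stalk_eq_one (C ↘ Spec (CommRingCat.of k)) hdim hcl) : IsLocalRing.maximalIdeal A ∉ _)
  have hinj : Function.Injective f := pMap_injective hU
  have hkill : ∀ b : pStalk π x, f s * b = 0 → b = 0 := fun b hb => by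
    refine eq_zero_of_maximalIdeal hU' hcl hxU b fun a ha => ?_
    obtain ⟨d, hd⟩ : f a * b ∈ f.range := by
      obtain ⟨c, d, rfl⟩ := hgen b
      obtain ⟨e, he⟩ := hm a ha
      exact ⟨c * e + a * d, by rw [map_add, map_mul, map_mul, he]; ring⟩
    have h0 : s * d = 0 := hinj (by rw [map_mul, hd, map_zero, ← mul_assoc, mul_comm (f s), mul_assoc, hb, mul_zero])
    rw [← hd, hs0 d h0, map_zero]
  have hpA : (p : A) = 0 := by rw [← map_natCast (Curv2.stalkMap k C x), CharP.cast_eq_zero, map_zero]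
  have hp' : gB π x W hx z ^ p ∉ f.range := fun h => hzr (mem_range_of_pow_mem f hnp hinj
    (by rw [hpA]; exact zero_mem _) hs hkill (fun w hw => by obtain ⟨v, hv⟩ := hm w hw; exact ⟨v, hv⟩) h)
  obtain ⟨hm', hgen'⟩ := gB_of_length_one π x hx hl _ hp'
  obtain ⟨c, d, hcd⟩ := hgen' (gB π x W hx z)
  obtain ⟨α, hα⟩ := exists_residue_eq (k := k) hcl c
  obtain ⟨β, hβ⟩ := IsAlgClosed.exists_pow_nat_eq α hp.pos
  obtain ⟨e, he⟩ := hm' _ hα
  refine ⟨f (Curv2.stalkMap k C x β) * gB π x W hx z, e + d, ?_⟩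
  rw [mul_pow, ← map_pow, ← map_pow, hβ, map_add, he]
  conv_lhs => rw [hcd]
  rw [map_sub]
  ring

section global

variable (φ : Coh.toAb (Coh.structureModule C) ⟶ Coh.toAb (Coh.structureModule C))
  (hφ : ∀ (V : C.Opens) (s : Γ(C, V)), (φ.hom.app (op V)).hom s = s ^ p)
  (φ' : Coh.toAb (Coh.structureModule C') ⟶ Coh.toAb (Coh.structureModule C'))
  (hφ' : ∀ (V : C'.Opens) (s : Γ(C', V)), (φ'.hom.app (op V)).hom s = s ^ p)

include hdim hnod hC' hU hU' hφ hφ' in
theorem bijective_iff : Function.Bijective (Sheaf.H.map φ 1) ↔ Function.Bijective (Sheaf.H.map φ' 1) := by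
  classical
  haveI : IsLocallyNoetherian C := LocallyOfFiniteType.isLocallyNoetherian (C ↘ Spec (CommRingCat.of k))
  haveI : CompactSpace C := QuasiCompact.compactSpace_of_compactSpace (C ↘ Spec (CommRingCat.of k))
  haveI : NoetherianSpace C := by
    haveI : AlgebraicGeometry.IsNoetherian C := {}
    infer_instance
  have hd := NodeLib.dim_le_one_of_components (C ↘ Spec (CommRingCat.of k)) hdim
  have hd' : topologicalKrullDim C' ≤ 1 := (AVDualCx.dim_le_of_finite π).trans hd
  haveI := NormEuler.mono_unitToPush π hU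
  let u : Coh.toAb (Coh.structureModule C) ⟶ Coh.toAb ((Coh.push π).obj (Coh.structureModule C')) :=
    (SheafOfModules.toSheaf C.ringCatSheaf).map (ClSub.unitToPush π)
  haveI : Mono u := Functor.map_mono _ _
  let φ₁ : Coh.toAb ((Coh.push π).obj (Coh.structureModule C')) ⟶ Coh.toAb ((Coh.push π).obj (Coh.structureModule C')) :=
    (CohTop.push π.base).map φ'
  have hcomm : φ ≫ u = u ≫ φ₁ := by
    refine Sheaf.hom_ext (NatTrans.ext (funext fun V => AddCommGrpCat.hom_ext (AddMonoidHom.ext fun s => ?_)))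
    let s' : Γ(C, V.unop) := s
    exact ((congrArg (π.app V.unop) (hφ V.unop s')).trans (map_pow (π.app V.unop).hom s' p)).trans
      (hφ' (π ⁻¹ᵁ V.unop) (π.app V.unop s')).symm
  let S : ShortComplex (CohTop.Ab (X := C.toPresheafedSpace.carrier)) := ShortComplex.mk u (cokernel.π u) (cokernel.condition u)
  have hS : S.ShortExact :=
    { exact := ShortComplex.exact_of_g_is_cokernel _ (cokernelIsCokernel u)
      mono_f := ‹Mono u›
      epi_g := inferInstance }
  let φQ : cokernel u ⟶ cokernel u := cokernel.map u u φ φ₁ hcomm.symm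
  let ψ : S ⟶ S := ShortComplex.homMk φ φ₁ φQ hcomm (cokernel.π_desc _ _ _).symm
  -- stalks of the cokernel
  have hgerm : ∀ (x : C) (q : (VanishGroth7.stalkF x).obj (cokernel u)),
      ∃ r, (VanishGroth7.stalkF x).map φQ r = q ∧ (x ∈ U → q = 0) := by
    intro x q
    obtain ⟨m, rfl⟩ := VanishGroth7.stalk_surjective (cokernel.π u) x q
    obtain ⟨W, hx, z, rfl⟩ := VanishGroth7.exists_germ _ x m
    obtain ⟨W', hx', i, w, a, he, hw⟩ := exists_frob (p := p) hdim hnod π hC' hU hU' x W hx z
    rw [← VanishGroth7.germ_res _ i hx' z]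
    have hres : (Coh.toAb ((Coh.push π).obj (Coh.structureModule C'))).obj.map (homOfLE i).op z =
        (φ₁.hom.app (op W')) w + (u.hom.app (op W')) a := he.trans (by rw [← hφ' (π ⁻¹ᵁ W') w]; rfl)
    have hg : (VanishGroth7.stalkF x).map (cokernel.π u) (VanishGroth7.germ _ hx'
        ((Coh.toAb ((Coh.push π).obj (Coh.structureModule C'))).obj.map (homOfLE i).op z)) =
        (VanishGroth7.stalkF x).map φQ ((VanishGroth7.stalkF x).map (cokernel.π u) (VanishGroth7.germ _ hx' w)) := by
      rw [hres, map_add, map_add, ← VanishGroth7.stalkF_map_germ u hx' a,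
        VanishGroth7.map_comp_eq_zero u (cokernel.π u) (cokernel.condition u), add_zero,
        ← VanishGroth7.stalkF_map_germ φ₁ hx' w, ← ConcreteCategory.comp_apply, ← Functor.map_comp,
        ← ConcreteCategory.comp_apply, ← Functor.map_comp]
      exact congrArg (fun t => (VanishGroth7.stalkF x).map t _) (cokernel.π_desc _ _ _).symm
    refine ⟨_, hg.symm, fun hxU => ?_⟩
    rw [hg, hw hxU]
    simp only [map_zero]
  haveI : AlgebraicGeometry.IsNoetherian C := {}
  have hT : ((U : Set C)ᶜ).Finite ∧ ∀ x ∈ (U : Set C)ᶜ, IsClosed ({x} : Set C) := by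
    have hclosed : ∀ x : C, x ∉ U → IsClosed ({x} : Set C) := fun x hx => by
      by_contra hx'
      exact hx (FlatDense.mem_of_dense_of_max_scheme U hU fun y' hy' => PureLib.eq_of_specializes hdim hx' hy')
    exact ⟨CurveCohLib.finite_of_closedPoints U.isOpen.isClosed_compl fun x hx => hclosed x hx, hclosed⟩
  have hQ0 : ∀ x ∉ (U : Set C)ᶜ, IsZero ((VanishGroth7.stalkF x).obj (cokernel u)) := fun x hx => by
    haveI : Subsingleton ((VanishGroth7.stalkF x).obj (cokernel u)) :=
      subsingleton_of_forall_eq 0 fun q => (hgerm x q).choose_spec.2 (not_not.1 hx)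
    exact AddCommGrpCat.isZero_of_subsingleton _
  haveI : Subsingleton (Sheaf.H S.X₃ 1) := subsingleton_H_one_of_supp hT.1 hT.2 (cokernel u) hQ0
  haveI hepi : Epi φQ := VanishGroth7.epi_of_stalk _ fun x q => ⟨_, (hgerm x q).choose_spec.1⟩
  have hQsurj : Function.Surjective (Sheaf.H.map φQ 0) := by
    let S₂ : ShortComplex (CohTop.Ab (X := C.toPresheafedSpace.carrier)) :=
      ShortComplex.mk (kernel.ι φQ) φQ (kernel.condition _)
    have hS₂ : S₂.ShortExact :=
      { exact := ShortComplex.exact_of_f_is_kernel _ (kernelIsKernel _)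
        mono_f := equalizer.ι_mono
        epi_g := hepi }
    haveI : Subsingleton (Sheaf.H S₂.X₁ 1) := subsingleton_H_one_of_supp hT.1 hT.2 (kernel φQ) fun x hx =>
      IsZero.of_mono ((VanishGroth7.stalkF x).map (kernel.ι φQ)) (hQ0 x hx)
    intro q
    obtain ⟨r, hr⟩ := Ext.covariant_sequence_exact₃ _ hS₂ q (n₁ := 1) rfl (Subsingleton.elim (α := Sheaf.H S₂.X₁ 1) _ _)
    exact ⟨r, hr⟩
  have husurj : Function.Surjective (Sheaf.H.map u 1) := fun b => by
    obtain ⟨a, ha⟩ := Ext.covariant_sequence_exact₂ _ hS b (Subsingleton.elim (α := Sheaf.H S.X₃ 1) _ _)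
    exact ⟨a, ha⟩
  have hnat : ∀ w, Sheaf.H.map φ₁ 1 (Sheaf.H.map u 1 w) = Sheaf.H.map u 1 (Sheaf.H.map φ 1 w) := fun w => by
    rw [← Sheaf.H.map_comp_apply, ← Sheaf.H.map_comp_apply, hcomm]
  -- comparison with the normalisation
  have hb : QCoh.Ab.PreimageBasis π.base (QCoh.stdCovers C') := fun V y hy => by
    obtain ⟨_, ⟨W, hW, rfl⟩, hyW, hWV⟩ := C.isBasis_affineOpens.exists_subset_of_mem_open hy V.2
    exact ⟨W, hWV, hyW, hW.preimage π⟩
  obtain ⟨e, he⟩ := QCoh.Ab.H_push_natural π.base (QCoh.stdCovers C') hb 1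
  have hac := QCoh.stdCovers_acyclic (X := C') (M := Coh.structureModule C') QCoh.isQCoh_structureModule
  let e₁ : Coh.HH C' (Coh.structureModule C') 1 ≃+ Coh.HH C ((Coh.push π).obj (Coh.structureModule C')) 1 :=
    e (QCoh.abSheaf (Coh.structureModule C')) hac
  have he₁ : ∀ y, e₁ (Sheaf.H.map φ' 1 y) = Sheaf.H.map φ₁ 1 (e₁ y) :=
    fun y => he (QCoh.abSheaf (Coh.structureModule C')) (QCoh.abSheaf (Coh.structureModule C')) hac hac φ' y
  haveI : CharP k p := ‹_›
  haveI : PerfectRing k p := PerfectField.toPerfectRing p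
  constructor
  · intro h
    refine bijective_of_surjective_H φ' hφ' (π ≫ (C ↘ Spec (CommRingCat.of k))) hd' fun y => ?_
    obtain ⟨b, hb⟩ := husurj (e₁ y)
    obtain ⟨a, rfl⟩ := h.2 b
    exact ⟨e₁.symm (Sheaf.H.map u 1 a), e₁.injective (by rw [he₁, e₁.apply_symm_apply, hnat, hb])⟩
  · intro h
    refine bijective_of_surjective_H φ hφ (C ↘ Spec (CommRingCat.of k)) hd fun w => ?_
    obtain ⟨y, hy⟩ := h.2 (e₁.symm (Sheaf.H.map u 1 w))
    obtain ⟨a, ha⟩ := husurj (e₁ y)
    have h0 : Sheaf.H.map u 1 (w - Sheaf.H.map φ 1 a) = 0 := by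
      rw [map_sub, ← hnat, ha, ← he₁, hy, e₁.apply_symm_apply, sub_self]
    obtain ⟨q, hq⟩ := Ext.covariant_sequence_exact₁ _ hS (w - Sheaf.H.map φ 1 a) h0 (n₀ := 0) rfl
    obtain ⟨r, rfl⟩ := hQsurj q
    refine ⟨a + Ext.comp r hS.extClass (zero_add 1), ?_⟩
    have h1 : Sheaf.H.map φ 1 (Ext.comp r hS.extClass (zero_add 1)) = w - Sheaf.H.map φ 1 a :=
      (CharPTop.comp_extClass_natural hS hS ψ r).trans hq
    rw [map_add, h1, add_sub_cancel]

end global

end Groth.Agent.NodeFrob
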