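import Groth.Agent.NodeFrob.Alg
import Groth.Agent.NormEuler.Nodal

/-! the Frobenius on the cokernel of `O_C → π_* O_C'` at a node -/

universe u

open CategoryTheory CategoryTheory.Limits AlgebraicGeometry Opposite TopologicalSpace IsLocalRing

namespace Groth.Agent.NodeFrob

set_option autoImplicit false
set_option maxHeartbeats 1000000
set_option backward.isDefEq.respectTransparency false
set_option backward.isDefEq.respectTransparency.types false
set_option linter.style.haveILetI false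

variable {X X' : Scheme.{u}} (π : X' ⟶ X) (x : X)

/-- the stalk of the direct image of the structure sheaf, as a ring -/
noncomputable abbrev pStalk : CommRingCat.{u} :=
  ((TopCat.Presheaf.pushforward CommRingCat.{u} π.base).obj X'.presheaf).stalk x

/-- its algebra map -/
noncomputable abbrev pMap : X.presheaf.stalk x →+* pStalk π x :=
  ((TopCat.Presheaf.stalkFunctor CommRingCat.{u} x).map π.c).hom

/-- germs -/
noncomputable abbrev gB (W : X.Opens) (hx : x ∈ W) : Γ(X', π ⁻¹ᵁ W) →+* pStalk π x :=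
  (((TopCat.Presheaf.pushforward CommRingCat.{u} π.base).obj X'.presheaf).germ W x hx).hom

/-- germs in the module -/
noncomputable abbrev gM (W : X.Opens) (hx : x ∈ W) (z : Γ(X', π ⁻¹ᵁ W)) :
    ((Scheme.Modules.pushforward π).obj (Coh.structureModule X')).presheaf.stalk x :=
  ((Scheme.Modules.pushforward π).obj (Coh.structureModule X')).presheaf.germ W x hx z

theorem res_res {Y : Scheme.{u}} {A B D : Y.Opens} (f : A ≤ B) (g : B ≤ D) (z : Γ(Y, D)) :
    Y.presheaf.map (homOfLE f).op (Y.presheaf.map (homOfLE g).op z) = Y.presheaf.map (homOfLE (f.trans g)).op z := by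
  rw [← CommRingCat.comp_apply, ← Functor.map_comp]
  rfl

theorem gB_res {V W : X.Opens} (i : V ≤ W) (hx : x ∈ V) (z : Γ(X', π ⁻¹ᵁ W)) :
    gB π x V hx (X'.presheaf.map (homOfLE (π.preimage_mono i)).op z) = gB π x W (i hx) z :=
  TopCat.Presheaf.germ_res_apply ((TopCat.Presheaf.pushforward CommRingCat.{u} π.base).obj X'.presheaf) (homOfLE i) x hx z

theorem gM_res {V W : X.Opens} (i : V ≤ W) (hx : x ∈ V) (z : Γ(X', π ⁻¹ᵁ W)) :
    gM π x V hx (X'.presheaf.map (homOfLE (π.preimage_mono i)).op z) = gM π x W (i hx) z :=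
  TopCat.Presheaf.germ_res_apply ((Scheme.Modules.pushforward π).obj (Coh.structureModule X')).presheaf (homOfLE i) x hx z

theorem pMap_germ (W : X.Opens) (hx : x ∈ W) (a : Γ(X, W)) :
    pMap π x (X.presheaf.germ W x hx a) = gB π x W hx (π.app W a) :=
  TopCat.Presheaf.stalkFunctor_map_germ_apply (C := CommRingCat.{u}) W x hx π.c a

theorem gM_smul (W : X.Opens) (hx : x ∈ W) (a : Γ(X, W)) (z : Γ(X', π ⁻¹ᵁ W)) :
    gM π x W hx (π.app W a * z) = X.presheaf.germ W x hx a • gM π x W hx z :=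
  PresheafOfModules.germ_smul (M := ((Scheme.Modules.pushforward π).obj (Coh.structureModule X')).val) x W hx a z

theorem gB_eq_of_gM_eq {W : X.Opens} {hx : x ∈ W} {u v : Γ(X', π ⁻¹ᵁ W)} (h : gM π x W hx u = gM π x W hx v) :
    gB π x W hx u = gB π x W hx v := by
  obtain ⟨V, hxV, i₁, i₂, hV⟩ := TopCat.Presheaf.germ_eq ((Scheme.Modules.pushforward π).obj (Coh.structureModule X')).presheaf x hx hx u v h
  rw [← gB_res π x i₁.le hxV u, ← gB_res π x i₂.le hxV v]
  exact congrArg _ hV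

theorem gM_mem_span {W : X.Opens} {hx : x ∈ W} {u : Γ(X', π ⁻¹ᵁ W)}
    (h : gM π x W hx u ∈ Submodule.span (X.presheaf.stalk x) {gM π x W hx 1}) :
    gB π x W hx u ∈ (pMap π x).range := by
  obtain ⟨c, hc⟩ := Submodule.mem_span_singleton.1 h
  obtain ⟨V, hxV, c0, rfl⟩ := TopCat.Presheaf.exists_germ_eq _ c
  refine ⟨X.presheaf.germ V x hxV c0, ?_⟩
  let r := X'.presheaf.map (homOfLE (π.preimage_mono (inf_le_left : W ⊓ V ≤ W))).op
  rw [← gM_res π x (inf_le_left : W ⊓ V ≤ W) ⟨hx, hxV⟩ u, ← gM_res π x (inf_le_left : W ⊓ V ≤ W) ⟨hx, hxV⟩ 1,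
    ← X.presheaf.germ_res_apply (homOfLE (inf_le_right : W ⊓ V ≤ V)) x ⟨hx, hxV⟩ c0, ← gM_smul] at hc
  rw [← gB_res π x (inf_le_left : W ⊓ V ≤ W) ⟨hx, hxV⟩ u, ← gB_eq_of_gM_eq π x hc,
    ← X.presheaf.germ_res_apply (homOfLE (inf_le_right : W ⊓ V ≤ V)) x ⟨hx, hxV⟩ c0, pMap_germ,
    map_one, mul_one]

/-- consequences of the cokernel having length one -/
theorem gB_of_length_one {V : X.Opens} (hxV : x ∈ V)
    (hl : Module.length (X.presheaf.stalk x) (((Scheme.Modules.pushforward π).obj (Coh.structureModule X')).presheaf.stalk x ⧸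
      Submodule.span (X.presheaf.stalk x) {gM π x V hxV 1}) = 1)
    (z : pStalk π x) (hz : z ∉ (pMap π x).range) :
    (∀ a ∈ maximalIdeal (X.presheaf.stalk x), z * pMap π x a ∈ (pMap π x).range) ∧
      ∀ w : pStalk π x, ∃ c d : X.presheaf.stalk x, w = pMap π x c * z + pMap π x d := by
  haveI := (Module.length_eq_one_iff).1 hl
  obtain ⟨W₀, hxW₀, z₀, rfl⟩ := TopCat.Presheaf.exists_germ_eq _ z
  have h1 : ∀ (W : X.Opens) (hxW : x ∈ W), gM π x W hxW 1 = gM π x V hxV 1 := fun W hxW => by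
    rw [← gM_res π x (inf_le_left : W ⊓ V ≤ W) ⟨hxW, hxV⟩, ← gM_res π x (inf_le_right : W ⊓ V ≤ V) ⟨hxW, hxV⟩,
      map_one, map_one]
  let N := Submodule.span (X.presheaf.stalk x) {gM π x V hxV 1}
  let q := N.mkQ (gM π x W₀ hxW₀ z₀)
  have hq : q ≠ 0 := fun h => hz (gM_mem_span π x (by rw [h1]; exact (Submodule.Quotient.mk_eq_zero N).1 h))
  have hspan : Submodule.span (X.presheaf.stalk x) {q} = ⊤ :=
    (IsSimpleOrder.eq_bot_or_eq_top _).resolve_left fun h => hq (Submodule.span_singleton_eq_bot.1 h)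
  refine ⟨fun a ha => ?_, fun w => ?_⟩
  · have h0 : a • q = 0 := by
      by_contra h
      obtain ⟨b, hb⟩ := Submodule.mem_span_singleton.1 (show q ∈ Submodule.span (X.presheaf.stalk x) {a • q} by
        rw [(IsSimpleOrder.eq_bot_or_eq_top _).resolve_left fun h' => h (Submodule.span_singleton_eq_bot.1 h')]
        exact Submodule.mem_top)
      have hu : IsUnit (1 - b * a) :=
        IsLocalRing.isUnit_one_sub_self_of_mem_nonunits _ (Ideal.mul_mem_left _ b ha)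
      exact hq (hu.smul_eq_zero.1 (by rw [sub_smul, one_smul, mul_smul, hb, sub_self]))
    obtain ⟨Wa, hxa, a₀, rfl⟩ := TopCat.Presheaf.exists_germ_eq _ a
    have hW : x ∈ W₀ ⊓ Wa := ⟨hxW₀, hxa⟩
    have h2 := (Submodule.Quotient.mk_eq_zero N).1 h0
    dsimp only [N] at h2
    rw [← h1 _ hW, ← gM_res π x (inf_le_left : W₀ ⊓ Wa ≤ W₀) hW z₀,
      ← X.presheaf.germ_res_apply (homOfLE (inf_le_right : W₀ ⊓ Wa ≤ Wa)) x hW a₀, ← gM_smul] at h2
    have h3 := gM_mem_span π x h2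
    rw [map_mul, ← pMap_germ, X.presheaf.germ_res_apply (homOfLE (inf_le_right : W₀ ⊓ Wa ≤ Wa)) x hW a₀,
      gB_res π x (inf_le_left : W₀ ⊓ Wa ≤ W₀) hW z₀] at h3
    change gB π x W₀ hxW₀ z₀ * pMap π x (X.presheaf.germ Wa x hxa a₀) ∈ (pMap π x).range
    rw [mul_comm]
    exact h3
  · obtain ⟨Ww, hxw, w₀, rfl⟩ := TopCat.Presheaf.exists_germ_eq _ w
    obtain ⟨c, hc⟩ := Submodule.mem_span_singleton.1
      (show N.mkQ (gM π x Ww hxw w₀) ∈ Submodule.span (X.presheaf.stalk x) {q} from hspan ▸ Submodule.mem_top)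
    obtain ⟨Wc, hxc, c₀, rfl⟩ := TopCat.Presheaf.exists_germ_eq _ c
    have hW : x ∈ W₀ ⊓ Ww ⊓ Wc := ⟨⟨hxW₀, hxw⟩, hxc⟩
    have h2 := (Submodule.Quotient.eq N).1 hc.symm
    dsimp only [N] at h2
    rw [← h1 _ hW, ← gM_res π x (inf_le_left.trans inf_le_left : W₀ ⊓ Ww ⊓ Wc ≤ W₀) hW z₀,
      ← gM_res π x (inf_le_left.trans inf_le_right : W₀ ⊓ Ww ⊓ Wc ≤ Ww) hW w₀,
      ← X.presheaf.germ_res_apply (homOfLE (inf_le_right : W₀ ⊓ Ww ⊓ Wc ≤ Wc)) x hW c₀, ← gM_smul, gM, gM,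
      ← map_sub] at h2
    obtain ⟨d, hd⟩ := gM_mem_span π x h2
    rw [map_sub, map_mul, ← pMap_germ, X.presheaf.germ_res_apply (homOfLE (inf_le_right : W₀ ⊓ Ww ⊓ Wc ≤ Wc)) x hW c₀,
      gB_res π x (inf_le_left.trans inf_le_left : W₀ ⊓ Ww ⊓ Wc ≤ W₀) hW z₀,
      gB_res π x (inf_le_left.trans inf_le_right : W₀ ⊓ Ww ⊓ Wc ≤ Ww) hW w₀] at hd
    refine ⟨X.presheaf.germ Wc x hxc c₀, d, ?_⟩
    change gB π x Ww hxw w₀ = pMap π x _ * gB π x W₀ hxW₀ z₀ + _
    rw [hd]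
    ring

variable {π x} {U : X.Opens} (hU : Dense (U : Set X)) (hU' : Dense ((π ⁻¹ᵁ U : X'.Opens) : Set X'))

include hU in
theorem pMap_injective [IsReduced X] [IsIso (π ∣_ U)] : Function.Injective (pMap π x) := by
  intro a b h
  obtain ⟨W₁, h₁, a, rfl⟩ := TopCat.Presheaf.exists_germ_eq _ a
  obtain ⟨W₂, h₂, b, rfl⟩ := TopCat.Presheaf.exists_germ_eq _ b
  rw [pMap_germ, pMap_germ] at h
  obtain ⟨V, hxV, i₁, i₂, hV⟩ := TopCat.Presheaf.germ_eq _ x h₁ h₂ _ _ h
  have hV' : π.app V (X.presheaf.map i₁.op a) = π.app V (X.presheaf.map i₂.op b) := by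
    rw [show i₁ = homOfLE i₁.le from rfl, show i₂ = homOfLE i₂.le from rfl, NormEuler.app_res, NormEuler.app_res]
    exact hV
  rw [← X.presheaf.germ_res_apply i₁ x hxV, ← X.presheaf.germ_res_apply i₂ x hxV, NormEuler.app_injective π hU V hV']

include hU' in
/-- nothing is killed by the maximal ideal -/
theorem eq_zero_of_maximalIdeal [IsReduced X'] [IsLocallyNoetherian X] (hx : IsClosed ({x} : Set X)) (hxU : x ∉ U)
    (b : pStalk π x) (h : ∀ a ∈ maximalIdeal (X.presheaf.stalk x), pMap π x a * b = 0) : b = 0 := by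
  classical
  obtain ⟨W₀, hxW₀, b₀, rfl⟩ := TopCat.Presheaf.exists_germ_eq _ b
  obtain ⟨_, ⟨V, hV, rfl⟩, hxV, hVW⟩ := X.isBasis_affineOpens.exists_subset_of_mem_open hxW₀ W₀.isOpen
  haveI : IsNoetherianRing Γ(X, V) := IsLocallyNoetherian.component_noetherian ⟨V, hV⟩
  let P := hV.primeIdealOf ⟨x, hxV⟩
  obtain ⟨S, hS⟩ := IsNoetherian.noetherian P.asIdeal
  have hkill : ∀ s ∈ S, ∃ W : X.Opens, x ∈ W ∧ ∃ i : W ≤ V,
      π.app W (X.presheaf.map (homOfLE i).op s) * X'.presheaf.map (homOfLE (π.preimage_mono (i.trans hVW))).op b₀ = 0 := by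
    intro s hs
    have hm : X.presheaf.germ V x hxV s ∈ maximalIdeal (X.presheaf.stalk x) := by
      rw [IsLocalRing.mem_maximalIdeal, mem_nonunits_iff]
      intro hu
      have h' : x ∈ (X.basicOpen s : Set X) := (X.mem_basicOpen s x hxV).2 hu
      rw [← hV.fromSpec_image_basicOpen] at h'
      obtain ⟨Q, hQ, hQx⟩ := h'
      have hQP : Q = P := hV.fromSpec.isOpenEmbedding.injective (hQx.trans (hV.fromSpec_primeIdealOf ⟨x, hxV⟩).symm)
      exact hQ (hQP ▸ (hS ▸ Submodule.subset_span hs : s ∈ P.asIdeal))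
    have h2 := h _ hm
    change pMap π x _ * gB π x W₀ hxW₀ b₀ = 0 at h2
    rw [pMap_germ, ← gB_res π x hVW hxV b₀, ← map_mul] at h2
    obtain ⟨W, hxW, i₁, i₂, hW⟩ := TopCat.Presheaf.germ_eq _ x hxV hxV _ 0 (h2.trans (map_zero _).symm)
    refine ⟨W, hxW, i₁.le, ?_⟩
    refine Eq.trans ?_ (hW.trans (map_zero _))
    change _ = X'.presheaf.map (homOfLE (π.preimage_mono i₁.le)).op (_ * _)
    rw [map_mul, ← NormEuler.app_res]
    exact congrArg (fun t => _ * t) (res_res (π.preimage_mono i₁.le) (π.preimage_mono hVW) b₀).symm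
  choose W hxW hi hW using hkill
  let O : X.Opens := V ⊓ S.attach.inf fun s => W s.1 s.2
  have hxO : x ∈ O := ⟨hxV, by
    refine Finset.inf_induction (p := fun Z : X.Opens => x ∈ Z) trivial (fun _ h₁ _ h₂ => ⟨h₁, h₂⟩) fun s _ => hxW s.1 s.2⟩
  have hOV : O ≤ V := inf_le_left
  suffices h0 : X'.presheaf.map (homOfLE (π.preimage_mono (hOV.trans hVW))).op b₀ = 0 by
    show gB π x W₀ hxW₀ b₀ = 0
    rw [← gB_res π x (hOV.trans hVW) hxO b₀, h0, map_zero]
  rw [← AlgebraicGeometry.basicOpen_eq_bot_iff]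
  refine Opens.ext (Set.not_nonempty_iff_eq_empty.1 fun hne => ?_)
  obtain ⟨z, hzB, hzU⟩ := hU'.inter_open_nonempty _ (X'.basicOpen _).isOpen hne
  have hzO : π z ∈ O := X'.basicOpen_le _ hzB
  obtain ⟨s, hs, hsz⟩ : ∃ s ∈ S, π z ∈ X.basicOpen s := by
    by_contra hall
    push Not at hall
    have hle : P.asIdeal ≤ (hV.primeIdealOf ⟨π z, hOV hzO⟩).asIdeal := by
      rw [← hS, Submodule.span_le]
      intro s hs
      by_contra h'
      apply hall s hs
      rw [← hV.fromSpec_image_basicOpen]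
      exact ⟨hV.primeIdealOf ⟨π z, hOV hzO⟩, h', hV.fromSpec_primeIdealOf _⟩
    have hPx : hV.fromSpec P = x := hV.fromSpec_primeIdealOf ⟨x, hxV⟩
    have hzx : hV.fromSpec (hV.primeIdealOf ⟨π z, hOV hzO⟩) = π z := hV.fromSpec_primeIdealOf ⟨π z, hOV hzO⟩
    have hsp : x ⤳ π z := by
      rw [← hPx, ← hzx]
      exact ((PrimeSpectrum.le_iff_specializes P (hV.primeIdealOf ⟨π z, hOV hzO⟩)).1 hle).map hV.fromSpec.continuous
    exact hxU ((hsp.mem_closed hx rfl : π z = x) ▸ hzU)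
  have hu : IsUnit (X'.presheaf.germ (π ⁻¹ᵁ V) z (hOV hzO) (π.app V s)) :=
    (X'.mem_basicOpen _ z (hOV hzO)).1 (by rw [← Scheme.preimage_basicOpen]; exact hsz)
  have hOW : O ≤ W s hs := inf_le_right.trans (Finset.inf_le (f := fun s : {a // a ∈ S} => W s.1 s.2) (Finset.mem_attach S ⟨s, hs⟩))
  have h1 := congrArg (X'.presheaf.germ (π ⁻¹ᵁ W s hs) z (hOW hzO)) (hW s hs)
  rw [map_mul, map_zero, NormEuler.app_res, X'.presheaf.germ_res_apply, X'.presheaf.germ_res_apply,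
    hu.mul_right_eq_zero] at h1
  have h2 := (X'.mem_basicOpen _ z hzO).1 hzB
  rw [X'.presheaf.germ_res_apply, h1] at h2
  exact not_isUnit_zero h2

theorem exists_nonzerodivisor {A : Type u} [CommRing A] [IsLocalRing A] [IsNoetherianRing A] [_root_.IsReduced A]
    (hA : maximalIdeal A ∉ minimalPrimes A) : ∃ s ∈ maximalIdeal A, ∀ c : A, s * c = 0 → c = 0 := by
  obtain ⟨s, hsm, hs⟩ : ∃ s ∈ maximalIdeal A, ∀ P ∈ minimalPrimes A, s ∉ P := by
    by_contra h
    push Not at h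
    have hsub : (maximalIdeal A : Set A) ⊆ ⋃ P ∈ ((minimalPrimes.finite_of_isNoetherianRing A).toFinset : Set (Ideal A)), (P : Set A) := by
      intro s hs
      obtain ⟨P, hP, hsP⟩ := h s hs
      exact Set.mem_biUnion ((Set.Finite.mem_toFinset _).2 hP) hsP
    obtain ⟨P, hP, hle⟩ := (Ideal.subset_union_prime (f := fun P : Ideal A => P) ⊤ ⊤
      (fun P hP _ _ => ((Set.Finite.mem_toFinset _).1 hP).1.1)).1 hsub
    rw [Set.Finite.mem_toFinset] at hP
    exact hA ((maximalIdeal.isMaximal A).eq_of_le hP.1.1.ne_top hle ▸ hP)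
  refine ⟨s, hsm, fun c hc => ?_⟩
  refine IsReduced.eq_zero c (nilpotent_iff_mem_prime.2 fun Q hQ => ?_)
  obtain ⟨P, hP, hPQ⟩ := Ideal.exists_minimalPrimes_le (J := Q) (bot_le : (⊥ : Ideal A) ≤ Q)
  exact hPQ (((Ideal.IsPrime.mem_or_mem hP.1.1 (hc ▸ P.zero_mem : s * c ∈ P))).resolve_left (hs P hP))

theorem maximalIdeal_notMem_minimalPrimes {A : Type u} [CommRing A] [IsLocalRing A] (h : ringKrullDim A = 1) :
    maximalIdeal A ∉ minimalPrimes A := by
  intro hm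
  have h1 := IsLocalRing.maximalIdeal_height_eq_ringKrullDim (R := A)
  rw [Ideal.height_eq_zero_iff.2 hm, h] at h1
  exact zero_ne_one h1

end Groth.Agent.NodeFrob
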